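import Groth.Agent.Pi1X.FEtFull
import Groth.Agent.HensCouple7.ProperPair

/-!
Restriction of finite étale covers to a henselian closed subscheme is fully faithful.
-/

universe u

open CategoryTheory CategoryTheory.Limits AlgebraicGeometry

set_option linter.style.haveILetI false

namespace Groth.Agent.P1Prop

open Groth.Agent.HensCouple7

/-- If clopen subsets of every finite étale cover lift uniquely, restriction is fully faithful. -/
theorem restrict_fullyFaithful_of_lifts {X₀ X : Scheme.{u}} (i : X₀ ⟶ X) [IsClosedImmersion i]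
    (hX : Lifts (Set.range i.base))
    (hW : ∀ W : FEt.Cat X, Lifts (W.hom.base ⁻¹' Set.range i.base)) :
    (FEt.restrict i).Full ∧ (FEt.restrict i).Faithful := by
  have h : ∀ C : Set X, IsClopen C → C.Nonempty → (C ∩ Set.range i.base).Nonempty := by
    intro C hC hne
    by_contra hemp
    rw [Set.not_nonempty_iff_eq_empty] at hemp
    have hC0 : (Subtype.val ⁻¹' C : Set (Set.range i.base)) = ∅ :=
      Set.eq_empty_of_forall_notMem fun z hz => hemp.le ⟨hz, z.2⟩
    obtain ⟨U, -, hu⟩ := hX ∅ isClopen_empty
    exact hne.ne_empty ((hu C ⟨hC, hC0⟩).trans (hu ∅ ⟨isClopen_empty, rfl⟩).symm)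
  refine ⟨Pi1X.restrict_full i h fun W C hC => ?_, Pi1X.restrict_faithful i h⟩
  haveI : IsClosedImmersion (pullback.fst W.hom i) :=
    MorphismProperty.pullback_fst _ _ inferInstance
  have hl := hW W
  rw [← Scheme.Pullback.range_fst] at hl
  exact ((lifts_range_iff (pullback.fst W.hom i).isClosedEmbedding.isEmbedding).2 hl C hC).exists

/-- Full faithfulness for a proper scheme over a Noetherian henselian pair. -/
theorem restrict_fullyFaithful_proper {A : Type u} [CommRing A] [IsNoetherianRing A] (I : Ideal A)
    [HenselianRing A I] {X : Scheme.{u}} (f : X ⟶ Spec (CommRingCat.of A)) [IsProper f] :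
    (FEt.restrict (pullback.fst f (Spec.map (CommRingCat.ofHom (Ideal.Quotient.mk I))))).Full ∧
      (FEt.restrict (pullback.fst f (Spec.map (CommRingCat.ofHom (Ideal.Quotient.mk I))))).Faithful := by
  haveI : IsClosedImmersion (Spec.map (CommRingCat.ofHom (Ideal.Quotient.mk I))) :=
    IsClosedImmersion.spec_of_surjective _ Ideal.Quotient.mk_surjective
  refine restrict_fullyFaithful_of_lifts _ ?_ fun W => ?_
  · rw [range_fst_mk]
    exact lifts_proper I f
  · rw [range_fst_mk]
    exact lifts_finite_proper I f W.hom

end Groth.Agent.P1Prop
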